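import Cfsg.Agent.H486.RV.Blk
import Cfsg.Agent.H561.RV.AutCrit
import Cfsg.Agent.H198.UnitGamma

/-!
# TEAM RV, AO-PSU (helper486)

`autOdd_psu` : every automorphism of odd order of `PSU_n(q)`, `q` odd, `n ≥ 3`, centralises a Sylow `2`-subgroup after
multiplication with an inner automorphism.
-/

set_option autoImplicit false

namespace Cfsg.Agent.H486.RV

open Cfsg Subgroup Matrix
open Cfsg.Agent.H561.RV
open Cfsg.Agent.LieClassical.HermBasic Cfsg.Agent.LieClassical.HermSiegel
  Cfsg.Agent.LieClassical.HermGen Cfsg.Agent.LieClassical.SUBasic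
open Cfsg.Agent.ClassicalGeometry.PSUAutCount Cfsg.Agent.ClassicalGeometry.UnitAutBasic
open Cfsg.Agent.H183.OutPSU
open Cfsg.Agent.S2677 (fixF mem_fixF)

section

variable {F : Type*} [Field F] {q n : ℕ}

/-- the inclusion -/
def inc (n q : ℕ) (F : Type*) [Field F] : SU n F q →* GU n F q :=
  MonoidHom.mk' (fun g => ⟨Matrix.SpecialLinearGroup.toGL g.1, fun u v => (LieClassical.SUBasic.mem_SU_iff _).1 g.2 u v⟩)
    (fun a b => by
      apply Subtype.ext
      exact map_mul Matrix.SpecialLinearGroup.toGL a.1 b.1)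

theorem gm_inc (g : SU n F q) : gm (inc n q F g) = mat g := rfl

theorem normal_range_inc : (inc n q F).range.Normal := by
  constructor
  rintro _ ⟨g, rfl⟩ A
  obtain ⟨k, hk⟩ := exists_SU_of_det (A * inc n q F g * A⁻¹) (by
    have h1 : (mat g).det = 1 := (g : SpecialLinearGroup (Fin n) F).det_coe
    have h2 := congrArg Matrix.det (gm_mul_inv A)
    rw [det_mul, det_one] at h2
    rw [gm_mul, gm_mul, det_mul, det_mul, gm_inc, h1, mul_one, h2])
  exact ⟨k, gm_inj (by rw [gm_inc, ← hk])⟩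

/-- matrices commuting with `diag(1,..,1,-1,..,-1)` commute with block scalars -/
theorem comm_of_YP (h2 : (2 : F) ≠ 0) {σ : F ≃+* F} {a : ℕ} {M : Matrix (Fin n) (Fin n) F} (h : YP σ a M) (c : F) :
    M * (diagonal fun i : Fin n => if (i : ℕ) < a then c else 1) =
      (diagonal fun i : Fin n => if (i : ℕ) < a then c else 1) * M := by
  have key : ∀ i j : Fin n, M i j * (if (j : ℕ) < a then (1 : F) else -1) =
      (if (i : ℕ) < a then (1 : F) else -1) * M i j := by
    intro i j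
    have := congrFun (congrFun h.2 i) j
    rwa [mul_diagonal, diagonal_mul] at this
  ext i j
  rw [mul_diagonal, diagonal_mul]
  have hk := key i j
  have h0 : ∀ x : F, x = -x → x = 0 := by
    intro x hx
    have : (2 : F) * x = 0 := by linear_combination hx
    exact (mul_eq_zero.1 this).resolve_left h2
  split_ifs at hk ⊢ with hj hi hi
  · ring
  · have := h0 (M i j) (by linear_combination hk)
    rw [this]; ring
  · have := h0 (M i j) (by linear_combination -hk)
    rw [this]; ring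
  · ring

end

section Main

variable {F : Type*} [Field F] [Fintype F] {q n : ℕ}

theorem isSolvable_out (hF : Fintype.card F = q ^ 2) (hn : 3 ≤ n) (h32 : ¬ (n = 3 ∧ q = 2)) :
    Group.IsSolvable (Out (PSU n F q)) := by
  obtain ⟨p, hp⟩ := CharP.exists F
  have hpp : Fact p.Prime := ⟨CharP.char_is_prime F p⟩
  obtain ⟨k, -, hk⟩ := FiniteField.card F p
  have hqd : q ∣ p ^ (k : ℕ) := by rw [← hk, hF]; exact dvd_pow_self q two_ne_zero
  obtain ⟨f, -, hq⟩ := (Nat.dvd_prime_pow hpp.out).1 hqd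
  have hf : 1 ≤ f := by
    rcases Nat.eq_zero_or_pos f with h | h
    · have := Cfsg.Agent.LieClassical.GUOrder.two_le hF
      rw [hq, h, pow_zero] at this
      omega
    · exact h
  obtain ⟨φ, -, hc, -⟩ := out_psu hf hq hF hn h32
  have h1 : Group.IsSolvable φ.ker := Group.isSolvable_of_comm (fun a b => IsCyclic.commGroup.mul_comm a b)
  exact Group.isSolvable_of_ker_le_range φ.ker.subtype φ (by rw [Subgroup.range_subtype])

/-- a Sylow `2`-subgroup in the block diagonal group over the fixed field -/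
theorem exists_sylow {σ : F ≃+* F} {q₀ m t N : ℕ} (hF : Fintype.card F = q ^ 2) (hq : Odd q) (hm : Odd m)
    (hqm : q = q₀ ^ m) (hk : Nat.card (fixF σ) = q₀ ^ 2) (hN : Odd N) (hn : n = 2 ^ t * N) :
    ∃ P₀ : Sylow 2 (PSU n F q), ∀ x ∈ P₀, ∃ g : SU n F q, pr n F q g = x ∧ YP σ (2 ^ t) (mat g) := by
  classical
  have : Fact (Nat.Prime 2) := ⟨Nat.prime_two⟩
  have hfin : Finite (GU n F q) := Cfsg.Agent.LieClassical.GUOrder.finite_GU n
  have hinj : Function.Injective (inc n q F) := by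
    intro a b hab
    have h1 := congrArg gm hab
    exact Subtype.ext (Subtype.ext h1)
  have hfinS : Finite (SU n F q) := Finite.of_injective _ hinj
  set Y : Subgroup (SU n F q) := (YG n σ q (2 ^ t)).comap (inc n q F) with hY
  have hYodd : Odd Y.index := by
    have h1 := odd_index hF hq hm hqm hk hN hn
    have := normal_range_inc (F := F) (q := q) (n := n)
    rw [hY, index_comap]
    have h2 := Cfsg.Agent.H988.CPi.relIndex_mul_sup_index (YG n σ q (2 ^ t)) (inc n q F).range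
    exact Odd.of_dvd_nat h1 ⟨_, h2.symm⟩
  obtain ⟨Q⟩ : Nonempty (Sylow 2 Y) := inferInstance
  have h1 : ¬ 2 ∣ ((Q : Subgroup Y).map Y.subtype).index := by
    rw [index_map_subtype]
    intro hd
    rcases (Nat.prime_two.dvd_mul).1 hd with h | h
    · exact Q.not_dvd_index h
    · exact (Nat.not_even_iff_odd.2 hYodd) (even_iff_two_dvd.2 h)
  let P₁ : Sylow 2 (SU n F q) := (Q.isPGroup'.map Y.subtype).toSylow h1
  refine ⟨P₁.mapSurjective (pr_surjective (n := n) (F := F) (q := q)), fun x hx => ?_⟩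
  obtain ⟨g, hg, rfl⟩ := hx
  obtain ⟨y, -, rfl⟩ := hg
  exact ⟨_, rfl, y.2⟩

/-- **AO-PSU** -/
theorem autOdd_psu' {F : Type*} [Field F] [Fintype F] {n q : ℕ} (hF : Fintype.card F = q ^ 2) (hodd : Odd q)
    (hn : 3 ≤ n) : AutOdd (PSU n F q) := by
  classical
  have h32 : ¬ (n = 3 ∧ q = 2) := by
    rintro ⟨-, rfl⟩
    exact absurd hodd (by decide)
  have hfin : Finite (GU n F q) := Cfsg.Agent.LieClassical.GUOrder.finite_GU n
  have hfinP : Finite (PSU n F q) := by
    have hinj : Function.Injective (inc n q F) := by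
      intro a b hab
      have h1 := congrArg gm hab
      exact Subtype.ext (Subtype.ext h1)
    have hfinS : Finite (SU n F q) := Finite.of_injective _ hinj
    exact Finite.of_surjective _ (pr_surjective (n := n) (F := F) (q := q))
  have h2 : (2 : F) ≠ 0 := by
    intro h0
    have : CharP F 2 := CharTwo.of_one_ne_zero_of_two_eq_zero one_ne_zero h0
    obtain ⟨k, -, hk⟩ := FiniteField.card F 2
    rw [hF] at hk
    have : Even (q ^ 2) := by rw [hk]; exact (even_two).pow_of_ne_zero k.ne_zero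
    exact (Nat.not_even_iff_odd.2 hodd.pow) this
  have hsurj := Cfsg.Agent.ClassicalGeometry.PSUAutMain.exists_toAut hF hn h32
  obtain ⟨hcomm, σ, q₀, m, N₀, hm, hqm, hk, hσ⟩ := exists_odd_aut hF
  obtain ⟨t, N, hN, hnt⟩ := Nat.exists_eq_two_pow_mul_odd (n := n) (by omega)
  obtain ⟨P₀, hP₀⟩ := exists_sylow hF hodd hm hqm hk hN hnt
  have hDn : (NN n q F).Normal := normal_of hsurj
  set C : Subgroup (MulAut (PSU n F q)) := fixingSubgroup _ ((P₀ : Subgroup (PSU n F q)) : Set (PSU n F q)) with hC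
  have hCmem : ∀ φ : MulAut (PSU n F q), φ ∈ C ↔ ∀ x ∈ P₀, φ x = x := by
    intro φ
    rw [hC, mem_fixingSubgroup_iff]
    rfl
  -- field automorphisms
  have hfield : ∀ ρ ∈ zpowers σ, sG n q F ρ ∈ C := by
    have h1 : zpowers σ ≤ C.comap (sG n q F) := by
      rw [zpowers_le, mem_comap, hCmem]
      intro x hx
      obtain ⟨g, rfl, hg⟩ := hP₀ x hx
      rw [sG_apply, toAut_pr]
      congr 1
      apply Subtype.ext
      apply Subtype.ext
      change mat (semiConj 1 σ g) = mat g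
      rw [Cfsg.Agent.H198.UnitGamma.mat_semiConj, gm_one, inv_one, gm_one, one_mul, mul_one, hg.1]
    exact h1
  -- block scalars
  have hdiag : ∀ c : F, ∀ hc : c ^ (q + 1) = 1,
      cG n q F (ClassicalGeometry.GUBasic.guDiag q (fun i : Fin n => if (i : ℕ) < 2 ^ t then c else 1) (fun i => by
        split_ifs
        · exact hc
        · exact one_pow _)) ∈ C := by
    intro c hc
    rw [hCmem]
    intro x hx
    obtain ⟨g, rfl, hg⟩ := hP₀ x hx
    rw [cG_apply, toAut_pr]
    congr 1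
    apply Subtype.ext
    apply Subtype.ext
    change mat (semiConj _ 1 g) = mat g
    rw [Cfsg.Agent.H198.UnitGamma.mat_semiConj]
    have h3 : (mat g).map (1 : F ≃+* F) = mat g := by ext i j; rfl
    have h4 := comm_of_YP h2 hg c
    set A := (ClassicalGeometry.GUBasic.guDiag q (fun i : Fin n => if (i : ℕ) < 2 ^ t then c else 1) (fun i => by
        split_ifs
        · exact hc
        · exact one_pow _) : GU n F q) with hA
    have h5 : gm A = diagonal fun i : Fin n => if (i : ℕ) < 2 ^ t then c else 1 := rfl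
    rw [h3, h5, ← h4, ← h5, mul_assoc, gm_mul_inv, mul_one]
  -- the quotient `Aut / D`
  set π := QuotientGroup.mk' (NN n q F) with hπ
  have hπc : ∀ A : GU n F q, π (cG n q F A) = 1 := fun A => (QuotientGroup.eq_one_iff _).2 ⟨A, rfl⟩
  have hrep : ∀ φ : MulAut (PSU n F q), ∃ ρ : F ≃+* F, π φ = π (sG n q F ρ) := by
    intro φ
    obtain ⟨A, ρ, rfl⟩ := hsurj φ
    exact ⟨ρ, by rw [toAut_eq, map_mul, hπc, one_mul]⟩
  refine autOdd_of_layers (isSolvable_out hF hn h32) P₀ C (NN n q F) (fun φ hφ => (hCmem φ).1 hφ) inn_le_NN ?_ ?_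
    (Or.inr ⟨?_, ?_⟩)
  · intro φ ψ
    obtain ⟨ρ, hρ⟩ := hrep φ
    obtain ⟨ρ', hρ'⟩ := hrep ψ
    apply (QuotientGroup.eq_one_iff _).1
    change π (φ * ψ * φ⁻¹ * ψ⁻¹) = 1
    rw [map_mul, map_mul, map_mul, map_inv, map_inv, hρ, hρ', ← map_mul, ← map_mul, hcomm ρ ρ', map_mul, map_mul]
    group
  · intro φ
    obtain ⟨ρ, hρ⟩ := hrep φ
    refine ⟨N₀, ?_⟩
    have h3 : π (φ ^ 2 ^ N₀ * (sG n q F (ρ ^ 2 ^ N₀))⁻¹) = 1 := by
      rw [map_mul, map_pow, hρ, map_inv, map_pow, map_pow, mul_inv_cancel]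
    have h4 : φ ^ 2 ^ N₀ * (sG n q F (ρ ^ 2 ^ N₀))⁻¹ ∈ NN n q F := (QuotientGroup.eq_one_iff _).1 h3
    have h5 : φ ^ 2 ^ N₀ = (φ ^ 2 ^ N₀ * (sG n q F (ρ ^ 2 ^ N₀))⁻¹) * sG n q F (ρ ^ 2 ^ N₀) := by group
    rw [h5]
    exact mul_mem ((le_sup_right : NN n q F ≤ C ⊔ NN n q F) h4)
      ((le_sup_left : C ≤ C ⊔ NN n q F) (hfield _ (hσ ρ)))
  · rintro _ ⟨A, rfl⟩ _ ⟨B, rfl⟩
    rw [← map_inv, ← map_inv, ← map_mul, ← map_mul, ← map_mul]
    obtain ⟨g, hg⟩ := exists_SU_of_det (A * B * A⁻¹ * B⁻¹) (by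
      have e1 := congrArg Matrix.det (gm_mul_inv A)
      have e2 := congrArg Matrix.det (gm_mul_inv B)
      rw [det_mul, det_one] at e1 e2
      rw [gm_mul, gm_mul, gm_mul, det_mul, det_mul, det_mul]
      linear_combination (gm B).det * (gm B⁻¹).det * e1 + e2)
    rw [cG_of_SU g _ hg]
    exact ⟨_, rfl⟩
  · rintro _ ⟨A, rfl⟩
    -- the determinant
    set d : Fˣ := Matrix.GeneralLinearGroup.det (A : GL (Fin n) F) with hd
    have hdq : d ^ (q + 1) = 1 := by
      apply Units.ext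
      rw [Units.val_pow_eq_pow_val, Units.val_one]
      exact ClassicalGeometry.GUBasic.det_pow hF (herm_gm A)
    obtain ⟨r, k, hk1, hk2⟩ := Nat.exists_eq_two_pow_mul_odd (n := orderOf d) (orderOf_pos d).ne'
    refine ⟨r, ?_⟩
    have hod : (d ^ 2 ^ r) ^ k = 1 := by rw [← pow_mul, ← hk2, pow_orderOf_eq_one]
    -- a root
    obtain ⟨c, hc1, hc2⟩ : ∃ c : Fˣ, c ^ (q + 1) = 1 ∧ c ^ 2 ^ t = d ^ 2 ^ r := by
      have hcop : (2 ^ t).Coprime k := Nat.Coprime.pow_left t (Nat.coprime_two_left.2 hk1)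
      refine ⟨(d ^ 2 ^ r) ^ ((2 ^ t).gcdA k), ?_, ?_⟩
      · rw [← zpow_natCast, ← _root_.zpow_mul, mul_comm, _root_.zpow_mul, zpow_natCast, ← pow_mul, mul_comm, pow_mul, hdq,
          one_pow, _root_.one_zpow]
      · have h1 : (((2 ^ t : ℕ) : ℤ) * (2 ^ t).gcdA k + k * (2 ^ t).gcdB k) = 1 := by
          rw [← Nat.gcd_eq_gcd_ab, hcop.gcd_eq_one]; rfl
        have h3 : (d ^ 2 ^ r) = (d ^ 2 ^ r) ^ (((2 ^ t : ℕ) : ℤ) * (2 ^ t).gcdA k + k * (2 ^ t).gcdB k) := by
          rw [h1, zpow_one]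
        rw [_root_.zpow_add, _root_.zpow_mul _ (k : ℤ), zpow_natCast _ k, hod, _root_.one_zpow, mul_one, mul_comm,
          _root_.zpow_mul, zpow_natCast] at h3
        exact h3.symm
    have hcF : (c : F) ^ (q + 1) = 1 := by
      have := congrArg Units.val hc1
      rwa [Units.val_pow_eq_pow_val, Units.val_one] at this
    have hD := hdiag (c : F) hcF
    set D : GU n F q := ClassicalGeometry.GUBasic.guDiag q (fun i : Fin n => if (i : ℕ) < 2 ^ t then (c : F) else 1)
      (fun i => by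
        split_ifs
        · exact hcF
        · exact one_pow _) with hDdef
    have hdetD : (gm D).det = (c : F) ^ 2 ^ t := by
      change (diagonal fun i : Fin n => if (i : ℕ) < 2 ^ t then (c : F) else 1).det = _
      rw [det_diagonal, Finset.prod_ite, Finset.prod_const_one, mul_one, Finset.prod_const]
      congr 1
      have hle : 2 ^ t ≤ n := by
        rw [hnt]
        exact Nat.le_mul_of_pos_right _ hN.pos
      rw [Fin.card_filter_val_lt, min_eq_right hle]
    obtain ⟨g, hg⟩ := exists_SU_of_det (A ^ 2 ^ r * D⁻¹) (by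
      have e1 := congrArg Matrix.det (gm_mul_inv D)
      rw [det_mul, det_one, hdetD] at e1
      have e2 : (gm (A ^ 2 ^ r)).det = (c : F) ^ 2 ^ t := by
        have e3 : gm (A ^ 2 ^ r) = gm A ^ 2 ^ r := rfl
        have e4 : (gm A).det = (d : F) := rfl
        rw [e3, det_pow, e4]
        have := congrArg Units.val hc2
        rw [Units.val_pow_eq_pow_val, Units.val_pow_eq_pow_val] at this
        exact this.symm
      rw [gm_mul, det_mul, e2]
      exact e1)
    have h5 : (cG n q F A) ^ 2 ^ r = cG n q F (A ^ 2 ^ r * D⁻¹) * cG n q F D := by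
      rw [← map_mul, inv_mul_cancel_right, map_pow]
    rw [h5, cG_of_SU g _ hg]
    exact mul_mem ((le_sup_right : Inn (PSU n F q) ≤ C ⊔ Inn (PSU n F q)) ⟨_, rfl⟩)
      ((le_sup_left : C ≤ C ⊔ Inn (PSU n F q)) hD)

/-- **AO-PSU** -/
theorem autOdd_psu {F : Type} [Field F] [Fintype F] {n q : ℕ} (hF : Fintype.card F = q ^ 2) (hodd : Odd q)
    (hn : 3 ≤ n) : AutOdd (PSU n F q) := autOdd_psu' hF hodd hn

end Main

end Cfsg.Agent.H486.RV
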