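import Cfsg.Agent.H751.Big.Val2
import Cfsg.Agent.H183.OutPSU
import Cfsg.Agent.S2677

/-!
# TEAM RV, AO-PSU (helper486): numbers and field automorphisms of odd order

* `odd_choose` : `C(2^k N, 2^k)` is odd for `N` odd;
* `vv2_add` : the 2-part of `|GU_a × GU_(n-a)|` for `a = 2^(v_2 n)`;
* `card_fixF` : `|F| = |F^σ|^(o(σ))`;
* `exists_odd_aut` : the field automorphisms of odd order of a field with `q²` elements.
-/

set_option autoImplicit false

namespace Cfsg.Agent.H486.RV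

open Cfsg Cfsg.Agent.H751.Big

theorem odd_choose (k : ℕ) {N : ℕ} (hN : Odd N) : Odd ((2 ^ k * N).choose (2 ^ k)) := by
  have : Fact (Nat.Prime 2) := ⟨Nat.prime_two⟩
  induction k with
  | zero => simpa using hN
  | succ k ih =>
    have h := Choose.choose_modEq_choose_mod_mul_choose_div_nat (p := 2) (n := 2 ^ (k + 1) * N) (k := 2 ^ (k + 1))
    have e1 : 2 ^ (k + 1) * N % 2 = 0 := by
      rw [pow_succ, mul_right_comm]; exact Nat.mul_mod_left _ _
    have e2 : 2 ^ (k + 1) % 2 = 0 := by rw [pow_succ]; exact Nat.mul_mod_left _ _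
    have e3 : 2 ^ (k + 1) * N / 2 = 2 ^ k * N := by
      rw [pow_succ, mul_right_comm]; exact Nat.mul_div_cancel _ (by norm_num)
    have e4 : 2 ^ (k + 1) / 2 = 2 ^ k := by
      rw [pow_succ]; exact Nat.mul_div_cancel _ (by norm_num)
    rw [e1, e2, e3, e4, Nat.choose_zero_right, one_mul] at h
    rw [Nat.odd_iff] at ih ⊢
    exact Eq.trans h ih

theorem vv2_add (t : ℕ) {N : ℕ} (hN : Odd N) (x y : ℕ) :
    vv2 (2 ^ t) x y + vv2 (2 ^ t * N - 2 ^ t) x y = vv2 (2 ^ t * N) x y := by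
  have : Fact (Nat.Prime 2) := ⟨Nat.prime_two⟩
  obtain ⟨m, rfl⟩ := hN
  have e : 2 ^ t * (2 * m + 1) - 2 ^ t = 2 ^ t * (2 * m) := by
    rw [Nat.mul_add, mul_one, Nat.add_sub_cancel]
  rw [e]
  unfold vv2
  cases t with
  | zero =>
    have e1 : (2 ^ 0 : ℕ) / 2 = 0 := by norm_num
    have e2 : 2 ^ 0 * (2 * m) / 2 = m := by omega
    have e3 : 2 ^ 0 * (2 * m + 1) / 2 = m := by omega
    rw [e1, e2, e3]
    simp
    ring
  | succ t =>
    have e1 : 2 ^ (t + 1) / 2 = 2 ^ t := by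
      rw [pow_succ]; exact Nat.mul_div_cancel _ (by norm_num)
    have e2 : 2 ^ (t + 1) * (2 * m) / 2 = 2 ^ t * (2 * m) := by
      rw [pow_succ, mul_right_comm]; exact Nat.mul_div_cancel _ (by norm_num)
    have e3 : 2 ^ (t + 1) * (2 * m + 1) / 2 = 2 ^ t * (2 * m + 1) := by
      rw [pow_succ, mul_right_comm]; exact Nat.mul_div_cancel _ (by norm_num)
    rw [e1, e2, e3]
    have hc := odd_choose t (N := 2 * m + 1) ⟨m, rfl⟩
    have hle : 2 ^ t ≤ 2 ^ t * (2 * m + 1) := Nat.le_mul_of_pos_right _ (by omega)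
    have h1 := Nat.choose_mul_factorial_mul_factorial hle
    have e4 : 2 ^ t * (2 * m + 1) - 2 ^ t = 2 ^ t * (2 * m) := by
      rw [Nat.mul_add, mul_one, Nat.add_sub_cancel]
    rw [e4] at h1
    have h2 := congrArg (padicValNat 2) h1
    have hcne : (2 ^ t * (2 * m + 1)).choose (2 ^ t) ≠ 0 := hc.pos.ne'
    rw [padicValNat.mul (mul_ne_zero hcne (Nat.factorial_ne_zero _)) (Nat.factorial_ne_zero _),
      padicValNat.mul hcne (Nat.factorial_ne_zero _),
      padicValNat.eq_zero_of_not_dvd (n := (2 ^ t * (2 * m + 1)).choose (2 ^ t)) (by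
        rw [← even_iff_two_dvd, Nat.not_even_iff_odd]; exact hc), zero_add] at h2
    rw [← h2]
    ring

section Field

variable {K : Type*} [Field K]

open Cfsg.Agent.S2677 (fixF mem_fixF)

/-- the degree of the fixed field of an automorphism -/
theorem card_fixF [Finite K] {m : ℕ} (hm : m ≠ 0) {τ : K ≃+* K} (ho : orderOf τ = m) :
    Nat.card K = Nat.card ↥(fixF τ) ^ m := by
  classical
  let G : Subgroup (K ≃+* K) := Subgroup.zpowers τ
  have hGc : Nat.card ↥G = m := by rw [Nat.card_zpowers, ho]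
  have hfin : Finite ↥G := Nat.finite_of_card_ne_zero (by rw [hGc]; exact hm)
  have : Fintype ↥G := Fintype.ofFinite _
  have hff : FaithfulSMul ↥G K := ⟨fun {a b} h => by
    apply Subtype.ext
    ext x
    exact h x⟩
  have h1 := FixedPoints.finrank_eq_card ↥G K
  rw [← Nat.card_eq_fintype_card, hGc] at h1
  have h2 : FixedPoints.subfield ↥G K = fixF τ := by
    ext a
    rw [mem_fixF]
    constructor
    · intro ha
      exact ha ⟨τ, Subgroup.mem_zpowers τ⟩
    · rintro ha ⟨g, n, rfl⟩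
      have h3 : τ ∈ MulAction.stabilizer (K ≃+* K) a := ha
      exact (MulAction.stabilizer (K ≃+* K) a).zpow_mem h3 n
  rw [h2] at h1
  rw [Module.natCard_eq_pow_finrank (K := ↥(fixF τ)) (V := K), h1]

theorem exists_sigma {G : Type*} [Group G] [IsCyclic G] {k m : ℕ} (hG : Nat.card G = 2 ^ k * m) :
    ∃ σ : G, orderOf σ = m ∧ ∀ ρ : G, ρ ^ 2 ^ k ∈ Subgroup.zpowers σ := by
  obtain ⟨γ, hγ⟩ := IsCyclic.exists_generator (α := G)
  have h1 : orderOf γ = 2 ^ k * m := by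
    rw [← hG, orderOf_eq_card_of_forall_mem_zpowers hγ]
  refine ⟨γ ^ 2 ^ k, ?_, fun ρ => ?_⟩
  · rw [orderOf_pow_of_dvd (by positivity) (h1 ▸ dvd_mul_right _ _), h1]
    exact Nat.mul_div_cancel_left m (by positivity)
  · obtain ⟨j, rfl⟩ := hγ ρ
    refine ⟨j, ?_⟩
    change (γ ^ 2 ^ k) ^ j = (γ ^ j) ^ 2 ^ k
    rw [← zpow_natCast, ← zpow_natCast, ← zpow_mul, ← zpow_mul, mul_comm]

/-- the field automorphisms of odd order of a field with `q ^ 2` elements -/
theorem exists_odd_aut [Fintype K] {q : ℕ} (hK : Fintype.card K = q ^ 2) :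
    (∀ ρ ρ' : K ≃+* K, ρ * ρ' = ρ' * ρ) ∧
    ∃ (σ : K ≃+* K) (q₀ m N : ℕ), Odd m ∧ q = q₀ ^ m ∧ Nat.card (fixF σ) = q₀ ^ 2 ∧
      ∀ ρ : K ≃+* K, ρ ^ 2 ^ N ∈ Subgroup.zpowers σ := by
  classical
  obtain ⟨p, hp⟩ := CharP.exists K
  have hpp : Fact p.Prime := ⟨CharP.char_is_prime K p⟩
  obtain ⟨k, -, hk⟩ := FiniteField.card K p
  have hqd : q ∣ p ^ (k : ℕ) := by rw [← hk, hK]; exact dvd_pow_self q two_ne_zero
  obtain ⟨f, -, hq⟩ := (Nat.dvd_prime_pow hpp.out).1 hqd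
  have hkf : (k : ℕ) = 2 * f := by
    rw [hK, hq, ← pow_mul] at hk
    have := Nat.pow_right_injective hpp.out.two_le hk
    omega
  have hf : 1 ≤ f := by have := k.pos; omega
  have hcard : Fintype.card K = p ^ (2 * f) := by rw [hk, hkf]
  obtain ⟨e⟩ := Cfsg.Agent.H183.OutAbs.exists_ringAut_equiv (F := K) (p := p) (f := 2 * f) (by omega) hcard
  have hcyc : IsCyclic (K ≃+* K) := isCyclic_of_surjective e.symm e.symm.surjective
  refine ⟨fun ρ ρ' => ?_, ?_⟩
  · apply e.injective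
    rw [map_mul, map_mul]
    exact mul_comm (e ρ) (e ρ')
  have hcA : Nat.card (K ≃+* K) = 2 * f := Cfsg.Agent.Lib.FieldAutCard.card_ringAut (by omega) hcard
  obtain ⟨s, m, hm, hfm⟩ := Nat.exists_eq_two_pow_mul_odd (n := f) (by omega)
  have hm0 : m ≠ 0 := by rcases hm with ⟨j, hj⟩; omega
  obtain ⟨σ, ho, hσ⟩ := exists_sigma (G := K ≃+* K) (k := s + 1) (m := m) (by rw [hcA, hfm, pow_succ]; ring)
  refine ⟨σ, p ^ 2 ^ s, m, s + 1, hm, ?_, ?_, hσ⟩
  · rw [hq, hfm, pow_mul]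
  · have h1 := card_fixF hm0 ho
    have : Fintype (fixF σ) := Fintype.ofFinite _
    have : CharP (fixF σ) p := (CharP.charP_iff_prime_eq_zero hpp.out).2 (by
      apply Subtype.ext
      push_cast
      exact CharP.cast_eq_zero K p)
    obtain ⟨j, -, hj⟩ := FiniteField.card (fixF σ) p
    rw [Nat.card_eq_fintype_card, Nat.card_eq_fintype_card, hj, hcard, ← pow_mul] at h1
    have h2 := Nat.pow_right_injective hpp.out.two_le h1
    rw [Nat.card_eq_fintype_card, hj, ← pow_mul]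
    congr 1
    have h3 : (j : ℕ) * m = 2 ^ s * 2 * m := by
      rw [← h2, hfm]; ring
    exact Nat.eq_of_mul_eq_mul_right (Nat.pos_of_ne_zero hm0) h3

end Field

end Cfsg.Agent.H486.RV
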